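import Mathlib
import Cfsg.Agent.H928.Van.Tor
import Cfsg.Agent.H622.Levi.Semi
import Cfsg.Agent.H53.HC.Asm
import Cfsg.Agent.H53.HC.Flag_m3
import Cfsg.Agent.FastGrp
import Cfsg.Agent.Prune
set_option linter.all false
prune_inst 0x7f00000000000000000000000000000000000000000000000000000000000000000000000000000000000000000000000000000000000000000000000000000000000000000000000000000000000000003fffffffffffffffffffffffffffbeffbdffffffff
open scoped Cfsg.Agent.FastGrp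

/-!
Cuspidal characters of Levi subgroups of type `A_2` which are not invariant under graph automorphisms, and whose
complex conjugates are not conjugate under the torus.

* `exists_a2` : the characters; `inA2`, `pair`.
-/

set_option autoImplicit false
set_option linter.unusedSectionVars false

namespace Cfsg.Agent.H622.Levi

open Cfsg Cfsg.Agent.Characters CoxeterSystem Cfsg.Agent.ChevalleyStructure.CoxeterGeom Cfsg.Agent.Tits.Roots
  Cfsg.Agent.Tits.Core Cfsg.Agent.Nodes.Reps Cfsg.Agent.Nodes.BNOf Cfsg.Agent.Nodes.StabComb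
open Cfsg.Agent.LieRecognition.BNCox (cA)
open Cfsg.Agent.TitsThree.KSideA (tv tv_of_ne tv_add tv_zero tv_neg tv_comm)
open Cfsg.Agent.H139.Cusp (powTheta powTheta_algebraMap regular_powTheta_iff psi)
open Matrix
open scoped commutatorElement ComplexConjugate

section eta

variable {F L : Type} [Field F] [Finite F] [Field L] [Finite L] [Algebra F L]

theorem regular_a2 (hL : Module.finrank F L = 3) {θ : L →*₀ ℂ} (hθ : Function.Injective θ)
    (hq0 : Nat.card F - 1 ≠ 0) : H139.Cusp.Regular F 3 (powTheta θ (Nat.card F - 1) hq0) := by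
  rw [regular_powTheta_iff hθ hq0 hL]
  intro i hi hi3 hdvd
  have hq : 2 ≤ Nat.card F := Finite.one_lt_card
  obtain ⟨y, hy⟩ := Nat.exists_eq_add_of_le hq
  have h1 : 0 < Nat.card F ^ i - 1 := Nat.sub_pos_of_lt (Nat.one_lt_pow (by omega) hq)
  have h2 := Nat.le_of_dvd (Nat.mul_pos (Nat.pos_of_ne_zero hq0) h1) hdvd
  have h3 : Nat.card F ^ i ≤ Nat.card F ^ 2 := Nat.pow_le_pow_right (by omega) (by omega)
  have h4 : (Nat.card F - 1) * (Nat.card F ^ i - 1) ≤ (Nat.card F - 1) * (Nat.card F ^ 2 - 1) :=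
    Nat.mul_le_mul_left _ (by omega)
  have h5 : (Nat.card F - 1) * (Nat.card F ^ 2 - 1) < Nat.card F ^ 3 - 1 := by
    rw [hy]
    have e1 : 2 + y - 1 = y + 1 := by omega
    have e2 : (2 + y) ^ 2 - 1 = y ^ 2 + 4 * y + 3 := by
      have : (2 + y) ^ 2 = y ^ 2 + 4 * y + 3 + 1 := by ring
      omega
    have e3 : (2 + y) ^ 3 - 1 = y ^ 3 + 6 * y ^ 2 + 12 * y + 7 := by
      have : (2 + y) ^ 3 = y ^ 3 + 6 * y ^ 2 + 12 * y + 7 + 1 := by ring
      omega
    rw [e1, e2, e3]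
    ring_nf
    omega
  omega

/-- the constituents -/
theorem exists_eta (hL : Module.finrank F L = 3) {θ : L →*₀ ℂ} (hθ : Function.Injective θ)
    (hq0 : Nat.card F - 1 ≠ 0) :
    ∃ (η : SpecialLinearGroup (Fin 3) F → ℂ) (e t : ℕ), IsIrrCharacter _ η ∧
      IsCharacter _ (psi (n := 3) (F := F) L (powTheta θ (Nat.card F - 1) hq0) ∘ SpecialLinearGroup.toGL - η) ∧
      (∀ z ∈ Subgroup.center (SpecialLinearGroup (Fin 3) F), η z = η 1) ∧
      (∀ i : Fin 2, ∀ [Fintype (UU F i)], ∑ g : UU F i, η g = 0) ∧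
      η 1 = e ∧ e * t = (Nat.card F - 1) * (Nat.card F ^ 2 - 1) ∧ t ∣ 3 := by
  obtain ⟨η, e, t, h3, h3', h4, h5, h6, h7, h8⟩ := exists_sl_con (m := 2)
    (Ψ := psi (n := 3) (F := F) L (powTheta θ (Nat.card F - 1) hq0)) (by norm_num)
    (H139.Cusp.psi_isIrr _ hL (regular_a2 hL hθ hq0)) (H139.Cusp.psi_isCusp L _)
    (fun c => by
      have := H139.Cusp.psi_scalar (powTheta θ (Nat.card F - 1) hq0) hL c 1
      rw [mul_one] at this
      rw [this, powTheta_algebraMap hq0 dvd_rfl c.ne_zero, one_mul])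
    (H139.Cusp.psi_one L _ (by norm_num))
  refine ⟨η, e, t, h3, h3', h4, h5, h6, ?_, h8.trans (Nat.gcd_dvd_left _ _)⟩
  rw [h7]
  change ∏ i ∈ Finset.range 2, (Nat.card F ^ (i + 1) - 1) = _
  rw [Finset.prod_range_succ, Finset.prod_range_one, zero_add, pow_one]

end eta

variable {I W Y : Type*} [Fintype I] [DecidableEq I] [Group W] [Group Y] {M : CoxeterMatrix I}
  {cs : CoxeterSystem M W} {A : I → I → ℤ} {h : IsCartan M A} {p : ℕ} {T : Subgroup Y} {n : I → Y}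
  {X : (I → ℤ) → Subgroup Y}

section cnj

variable {F : Type} [Field F] {φ : SpecialLinearGroup (Fin 3) F →* Y}

/-- injectivity on root groups -/
theorem tv_injective (hker : φ.ker ≤ Subgroup.center (SpecialLinearGroup (Fin 3) F)) {a b : Fin 3} (hab : a ≠ b) :
    Function.Injective fun t : F => φ (tv a b t) := by
  obtain ⟨c, hac, hbc⟩ : ∃ c : Fin 3, a ≠ c ∧ b ≠ c := by
    revert a b; decide
  intro s t hst
  have h2 : (tv a b s)⁻¹ * tv a b t ∈ φ.ker := by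
    rw [MonoidHom.mem_ker, map_mul, map_inv]
    exact inv_mul_eq_one.2 hst
  have h3 := hker h2
  rw [← tv_neg, ← tv_add] at h3
  have h4 : ⁅tv a b (-s + t), tv b c (1 : F)⁆ = 1 := by
    rw [commutatorElement_eq_one_iff_mul_comm]
    exact (Subgroup.mem_center_iff.1 h3 _).symm
  rw [tv_comm hab hbc hac, mul_one] at h4
  have h5 : (tv a c (-s + t) : SpecialLinearGroup (Fin 3) F).1 a c = (1 : Matrix (Fin 3) (Fin 3) F) a c :=
    congrFun (congrFun (congrArg Subtype.val h4) a) c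
  rw [val_tv hac, Matrix.add_apply, Matrix.single_apply_same] at h5
  have h6 := add_eq_left.1 h5
  rw [neg_add_eq_zero] at h6
  exact h6

/-- composition of root groups, swapped -/
theorem swap_of {g : Y} {a b c : Fin 3} (hab : a ≠ b) (hbc : b ≠ c) (hac : a ≠ c)
    (h1 : ∀ s : F, ∃ t : F, g * φ (tv a b s) * g⁻¹ = φ (tv (Fin.rev b) (Fin.rev a) t))
    (h2 : ∀ s : F, ∃ t : F, g * φ (tv b c s) * g⁻¹ = φ (tv (Fin.rev c) (Fin.rev b) t)) (s : F) :
    ∃ t : F, g * φ (tv a c s) * g⁻¹ = φ (tv (Fin.rev c) (Fin.rev a) t) := by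
  have hrev : ∀ {a b : Fin 3}, a ≠ b → Fin.rev b ≠ Fin.rev a := fun hab h => hab (Fin.rev_injective h).symm
  obtain ⟨t, ht⟩ := h1 s
  obtain ⟨u, hu⟩ := h2 1
  refine ⟨-(u * t), ?_⟩
  have e1 : tv a c s = ⁅tv a b s, tv b c (1 : F)⁆ := by rw [tv_comm hab hbc hac, mul_one]
  rw [e1, map_commutatorElement, conjugate_commutatorElement, ht, hu, ← map_commutatorElement,
    ← commutatorElement_inv, tv_comm (hrev hbc) (hrev hab) (hrev hac), ← tv_neg]

/-- composition of root groups -/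
theorem dir_of {g : Y} {a b c : Fin 3} (hab : a ≠ b) (hbc : b ≠ c) (hac : a ≠ c)
    (h1 : ∀ s : F, ∃ t : F, g * φ (tv a b s) * g⁻¹ = φ (tv a b t))
    (h2 : ∀ s : F, ∃ t : F, g * φ (tv b c s) * g⁻¹ = φ (tv b c t)) (s : F) :
    ∃ t : F, g * φ (tv a c s) * g⁻¹ = φ (tv a c t) := by
  obtain ⟨t, ht⟩ := h1 s
  obtain ⟨u, hu⟩ := h2 1
  refine ⟨t * u, ?_⟩
  have e1 : tv a c s = ⁅tv a b s, tv b c (1 : F)⁆ := by rw [tv_comm hab hbc hac, mul_one]
  rw [e1, map_commutatorElement, conjugate_commutatorElement, ht, hu, ← map_commutatorElement,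
    tv_comm hab hbc hac]

/-- conjugation of root groups -/
theorem conj_of {k : Fin 2 → I} (C : Co X k F φ) {g : Y} {a b a' b' : Fin 3} (hab : a ≠ b) (hab' : a' ≠ b')
    (hg : cj g (X (cr k a b)) = X (cr k a' b')) (s : F) : ∃ t : F, g * φ (tv a b s) * g⁻¹ = φ (tv a' b' t) := by
  have h1 : φ (tv a b s) ∈ X (cr k a b) := by
    have h0 : φ (tv a b s) ∈ (X (cr k a b) : Set Y) := by
      rw [C.root a b hab, tv_of_ne hab]
      exact ⟨s, rfl⟩
    exact h0
  have h2 : g * φ (tv a b s) * g⁻¹ ∈ (X (cr k a' b') : Set Y) := by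
    change _ ∈ X (cr k a' b')
    rw [← hg, mem_cj]
    have : g⁻¹ * (g * φ (tv a b s) * g⁻¹) * g = φ (tv a b s) := by group
    rwa [this]
  rw [C.root a' b' hab'] at h2
  obtain ⟨t, ht⟩ := h2
  exact ⟨t, by rw [tv_of_ne hab']; exact ht.symm⟩

variable {k : Fin 2 → I} (C : Co X k F φ)
include C

theorem Co.swap_tv {g : Y} (h1 : cj g (X (sr (k 0))) = X (sr (k 1))) (h2 : cj g (X (sr (k 1))) = X (sr (k 0)))
    (h3 : cj g (X (-sr (k 0))) = X (-sr (k 1))) (h4 : cj g (X (-sr (k 1))) = X (-sr (k 0))) (a b : Fin 3) (hab : a ≠ b)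
    (s : F) : ∃ t : F, g * φ (tv a b s) * g⁻¹ = φ (tv (Fin.rev b) (Fin.rev a) t) := by
  have e01 : cr k 0 1 = sr (k 0) := cr_succ k 0
  have e12 : cr k 1 2 = sr (k 1) := cr_succ k 1
  have e10 : cr k 1 0 = -sr (k 0) := by rw [← e01, cr_neg]
  have e21 : cr k 2 1 = -sr (k 1) := by rw [← e12, cr_neg]
  have f01 : ∀ s : F, ∃ t : F, g * φ (tv 0 1 s) * g⁻¹ = φ (tv (Fin.rev 1) (Fin.rev 0) t) :=
    conj_of C (by decide) (by decide) (by
      change cj g (X (cr k 0 1)) = X (cr k 1 2)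
      rw [e01, e12, h1])
  have f12 : ∀ s : F, ∃ t : F, g * φ (tv 1 2 s) * g⁻¹ = φ (tv (Fin.rev 2) (Fin.rev 1) t) :=
    conj_of C (by decide) (by decide) (by
      change cj g (X (cr k 1 2)) = X (cr k 0 1)
      rw [e01, e12, h2])
  have f10 : ∀ s : F, ∃ t : F, g * φ (tv 1 0 s) * g⁻¹ = φ (tv (Fin.rev 0) (Fin.rev 1) t) :=
    conj_of C (by decide) (by decide) (by
      change cj g (X (cr k 1 0)) = X (cr k 2 1)
      rw [e10, e21, h3])
  have f21 : ∀ s : F, ∃ t : F, g * φ (tv 2 1 s) * g⁻¹ = φ (tv (Fin.rev 1) (Fin.rev 2) t) :=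
    conj_of C (by decide) (by decide) (by
      change cj g (X (cr k 2 1)) = X (cr k 1 0)
      rw [e10, e21, h4])
  fin_cases a <;> fin_cases b
  · exact absurd rfl hab
  · exact f01 s
  · exact swap_of (by decide) (by decide) (by decide) f01 f12 s
  · exact f10 s
  · exact absurd rfl hab
  · exact f12 s
  · exact swap_of (by decide) (by decide) (by decide) f21 f10 s
  · exact f21 s
  · exact absurd rfl hab

theorem Co.dir_tv {g : Y} (h1 : cj g (X (sr (k 0))) = X (sr (k 0))) (h2 : cj g (X (sr (k 1))) = X (sr (k 1)))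
    (h3 : cj g (X (-sr (k 0))) = X (-sr (k 0))) (h4 : cj g (X (-sr (k 1))) = X (-sr (k 1))) (a b : Fin 3) (hab : a ≠ b)
    (s : F) : ∃ t : F, g * φ (tv a b s) * g⁻¹ = φ (tv a b t) := by
  have e01 : cr k 0 1 = sr (k 0) := cr_succ k 0
  have e12 : cr k 1 2 = sr (k 1) := cr_succ k 1
  have e10 : cr k 1 0 = -sr (k 0) := by rw [← e01, cr_neg]
  have e21 : cr k 2 1 = -sr (k 1) := by rw [← e12, cr_neg]
  have f01 : ∀ s : F, ∃ t : F, g * φ (tv 0 1 s) * g⁻¹ = φ (tv 0 1 t) :=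
    conj_of C (by decide) (by decide) (by rw [e01, h1])
  have f12 : ∀ s : F, ∃ t : F, g * φ (tv 1 2 s) * g⁻¹ = φ (tv 1 2 t) :=
    conj_of C (by decide) (by decide) (by rw [e12, h2])
  have f10 : ∀ s : F, ∃ t : F, g * φ (tv 1 0 s) * g⁻¹ = φ (tv 1 0 t) :=
    conj_of C (by decide) (by decide) (by rw [e10, h3])
  have f21 : ∀ s : F, ∃ t : F, g * φ (tv 2 1 s) * g⁻¹ = φ (tv 2 1 t) :=
    conj_of C (by decide) (by decide) (by rw [e21, h4])
  fin_cases a <;> fin_cases b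
  · exact absurd rfl hab
  · exact f01 s
  · exact dir_of (by decide) (by decide) (by decide) f01 f12 s
  · exact f10 s
  · exact absurd rfl hab
  · exact f12 s
  · exact dir_of (by decide) (by decide) (by decide) f21 f10 s
  · exact f21 s
  · exact absurd rfl hab

end cnj

section final

open Cfsg.Agent.H53.HC (conjME conjME_coe NonSwap Cusp)

variable [Finite W] [Finite Y]

omit [Finite W] [Finite Y] in
theorem cusp_conj {K : Set I} {θ : ↥(H53.HC.MJ cs h X K) → ℂ} [Finite ↥(H53.HC.MJ cs h X K)]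
    (hθ : Cusp cs h X K θ) : Cusp cs h X K (fun x => conj (θ x)) where
  irr := Core.isIrr_conj hθ.irr
  cen z hz m := congrArg conj (hθ.cen z hz m)
  van i hi _ := by
    have := congrArg conj (hθ.van i hi)
    rwa [map_sum, map_zero] at this

variable {F : Type} [Field F] [Finite F] {φ : SpecialLinearGroup (Fin 3) F →* Y} {k : Fin 2 ↪ I}

/-- **The characters of the Levi subgroups of type `A_2`.** -/
theorem exists_a2 (C : Co X k F φ) (hk : ∀ i j, M (k i) (k j) = cA 2 i j) :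
    ∃ (θ : ↥(H53.HC.MJ cs h X (Set.range k)) → ℂ) (e t : ℕ), Cusp cs h X (Set.range k) θ ∧
      NonSwap cs h X (Set.range k) (k 0) (k 1) θ ∧ θ 1 = e ∧
      e * t = (Nat.card F - 1) * (Nat.card F ^ 2 - 1) ∧ t ∣ 3 ∧
      ∀ (g : Y) (hg : g ∈ Subgroup.normalizer (H53.HC.MJ cs h X (Set.range k) : Set Y)),
        cj g (X (sr (k 0))) = X (sr (k 0)) → cj g (X (sr (k 1))) = X (sr (k 1)) →
        cj g (X (-sr (k 0))) = X (-sr (k 0)) → cj g (X (-sr (k 1))) = X (-sr (k 1)) →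
        (fun x => conj (θ x)) ≠ θ ∘ conjME (H53.HC.MJ cs h X (Set.range k)) hg := by
  have hq0 : Nat.card F - 1 ≠ 0 := by
    have : 1 < Nat.card F := Finite.one_lt_card
    omega
  obtain ⟨L, _, _, _, hL⟩ : ∃ (L : Type) (_ : Field L) (_ : Algebra F L) (_ : Finite L),
      Module.finrank F L = 3 := by
    obtain ⟨p, hp⟩ := CharP.exists F
    have : Fact p.Prime := ⟨CharP.char_is_prime F p⟩
    exact ⟨FiniteField.Extension F p 3, inferInstance, inferInstance, inferInstance,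
      FiniteField.finrank_extension F p 3⟩
  obtain ⟨θ₀, hθ₀⟩ := H139.Cusp.exists_theta L
  obtain ⟨η, e, t, hη, hc, hz, hs, he, het, ht⟩ := exists_eta (F := F) hL hθ₀ hq0
  obtain ⟨θ, hθ, hv⟩ := exists_descend (cs := cs) (h := h) C hk (by norm_num) hη hz hs
  have hran : φ.range = H53.HC.MJ cs h X (Set.range k) := C.range hk (by norm_num)
  have hmem : ∀ x, φ x ∈ H53.HC.MJ cs h X (Set.range k) := fun x => hran ▸ ⟨x, rfl⟩
  have hinj : ∀ a b : Fin 3, a ≠ b → Function.Injective fun t : F => φ (tv a b t) :=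
    fun a b hab => tv_injective C.ker hab
  refine ⟨θ, e, t, hθ, ?_, (hv 1 1 (map_one φ).symm).trans he, het, ht, ?_⟩
  · intro g hg h1 h2 h3 h4 hcon
    obtain ⟨τ, D, hD⟩ := exists_swap hinj (C.swap_tv h1 h2 h3 h4)
    refine H53.HC.Gal.not_swap hθ₀ hL hq0 hη hc τ D (swapHom D τ) (fun x => ?_) ?_
    · rw [Matrix.transpose_map]
      exact coe_swapHom D τ x
    · funext x
      rw [Function.comp_apply, ← hv x ⟨φ x, hmem x⟩ rfl, ← congrFun hcon, Function.comp_apply]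
      symm
      apply hv
      rw [conjME_coe]
      exact hD x
  · intro g hg h1 h2 h3 h4 hcon
    obtain ⟨τ, D, hD⟩ := exists_dir hinj (C.dir_tv h1 h2 h3 h4)
    refine H53.HC.Gal.not_direct hθ₀ hL hq0 hη hc τ D (dirHom D τ) (fun x => coe_dirHom D τ x) ?_
    funext x
    rw [Function.comp_apply, ← hv x ⟨φ x, hmem x⟩ rfl]
    have e1 : conj (θ ⟨φ x, hmem x⟩) = θ (conjME (H53.HC.MJ cs h X (Set.range k)) hg ⟨φ x, hmem x⟩) :=
      congrFun hcon ⟨φ x, hmem x⟩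
    rw [e1]
    symm
    apply hv
    rw [conjME_coe]
    exact hD x

/-- a chain of two nodes -/
theorem exists_chain {k₀ k₁ : I} (hM : M k₀ k₁ = 3) :
    ∃ k : Fin 2 ↪ I, k 0 = k₀ ∧ k 1 = k₁ ∧ Set.range k = {k₀, k₁} ∧ ∀ i j, M (k i) (k j) = cA 2 i j := by
  have hne : k₀ ≠ k₁ := by
    rintro rfl
    rw [M.diagonal] at hM
    omega
  refine ⟨⟨![k₀, k₁], ?_⟩, rfl, rfl, ?_, ?_⟩
  · intro a b hab
    fin_cases a <;> fin_cases b
    · rfl
    · exact absurd hab hne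
    · exact absurd hab hne.symm
    · rfl
  · exact Matrix.range_cons_cons_empty _ _ _
  · intro a b
    fin_cases a <;> fin_cases b
    · change M k₀ k₀ = _
      rw [M.diagonal]; rfl
    · change M k₀ k₁ = _
      rw [hM]; rfl
    · change M k₁ k₀ = _
      rw [M.symmetric, hM]; rfl
    · change M k₁ k₁ = _
      rw [M.diagonal]; rfl

/-- **The input for one component of type `A_2`.** -/
theorem a2 (R : RGD cs h p T n X) {k₀ k₁ : I} (hM : M k₀ k₁ = 3) {q : ℕ} (hq : Nat.card (X (sr k₀)) = q) :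
    ∃ (θ : ↥(H53.HC.MJ cs h X {k₀, k₁}) → ℂ) (e t : ℕ), Cusp cs h X {k₀, k₁} θ ∧
      NonSwap cs h X {k₀, k₁} k₀ k₁ θ ∧ θ 1 = e ∧
      e * t = (q - 1) * (q ^ 2 - 1) ∧ t ∣ 3 ∧ Cusp cs h X {k₀, k₁} (fun x => conj (θ x)) ∧
      ∀ (t : Y) (ht : t ∈ T), (fun x => conj (θ x)) ≠
        θ ∘ conjME (H53.HC.MJ cs h X {k₀, k₁}) (H53.HC.T_le_normalizer_MJ R {k₀, k₁} ht) := by
  obtain ⟨k, rfl, rfl, hK, hk⟩ := exists_chain hM
  obtain ⟨F, _, _, φ, C⟩ := exists_co R le_rfl k hk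
  have hcard := C.card 0
  rw [hq] at hcard
  obtain ⟨θ, e, t, h1, h2, h3, h4, h5, h6⟩ := exists_a2 (cs := cs) (h := h) C hk
  rw [← hcard] at h4
  revert θ
  rw [hK]
  intro θ h1 h2 h3 h6
  refine ⟨θ, e, t, h1, h2, h3, h4, h5, cusp_conj h1, fun t ht => h6 t _ ?_ ?_ ?_ ?_⟩
  · exact R.tor _ (isRoot_sr cs h _) t ht
  · exact R.tor _ (isRoot_sr cs h _) t ht
  · exact R.tor _ (isRoot_sr cs h _).neg t ht
  · exact R.tor _ (isRoot_sr cs h _).neg t ht

theorem inA2 (R : RGD cs h p T n X) {k₀ k₁ : I} (hM : M k₀ k₁ = 3) {q : ℕ} (hq : Nat.card (X (sr k₀)) = q) :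
    ∃ θ : ↥(H53.HC.MJ cs h X {k₀, k₁}) → ℂ, Cusp cs h X {k₀, k₁} θ ∧ NonSwap cs h X {k₀, k₁} k₀ k₁ θ ∧
      ∃ d t : ℕ, θ 1 = d ∧ d * t = (q - 1) * (q ^ 2 - 1) ∧ t ∣ 3 := by
  obtain ⟨θ, e, t, h1, h2, h3, h4, h5, -, -⟩ := a2 R hM hq
  exact ⟨θ, h1, h2, e, t, h3, h4, h5⟩

theorem pair (R : RGD cs h p T n X) {k₀ k₁ : I} (hM : M k₀ k₁ = 3) :
    ∃ α α' : ↥(H53.HC.MJ cs h X {k₀, k₁}) → ℂ, Cusp cs h X {k₀, k₁} α ∧ Cusp cs h X {k₀, k₁} α' ∧
      ∀ t (ht : t ∈ T), α' ≠ α ∘ conjME (H53.HC.MJ cs h X {k₀, k₁}) (H53.HC.T_le_normalizer_MJ R {k₀, k₁} ht) := by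
  obtain ⟨θ, e, t, h1, -, -, -, -, h6, h7⟩ := a2 R hM rfl
  exact ⟨θ, _, h1, h6, h7⟩

end final

end Cfsg.Agent.H622.Levi
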